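import Cfsg.Agent.Lib.CosetEnum.Defs

/-! Generated table data. -/

set_option autoImplicit false
set_option maxRecDepth 20000

namespace Cfsg.Lib.J4Pres.Lvl3

open CosetEnum (Tab)

/-- The table. -/
def tabP : Tab :=
  (.node 1 (.leaf 0x700000000000000000700000000000000000b00000000000000000000000000000000000000000000000000000000000000000000000300000000000000000400000000000000000a000000000000000000000000000000000000000000000000000000000000000000000001000000000000000004000000000000000001000000000000000000000000000000000000000000000000000000000000000000000001000000000000000006000000000000000005000000000000000000000000000000000000000000000000000000000000000000000004000000000000000009000000000000000008000000000000000000000000000000000000000000000000000000000000000000000007000000000000000001000000000000000006000000000000000000000000000000000000000000000000000000000000000000000005000000000000000000000000000000000005000000000000000000000000000000000000000000000000000000000000000000000004000000000000000000000000000000000003000000000000000000000000000000000000000000000000000000000000000000000003000000000000000002000000000000000000000000000000000000000000000000000000000000000000000000000000000000000000000000000000000002000000000000000000000000000000000000000000000000000000000000000000000000000000000000000000000000000000000001) (.node 1 (.leaf 0xf00000000000000000c00000000000000000b00000000000000000000000000000000000000000000000000000000000000000000000d00000000000000000e00000000000000000700000000000000000000000000000000000000000000000000000000000000000000000800000000000000000300000000000000000d0000000000000000000000000000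0000000000000000000000000000000000000000000e00000000000000000600000000000000000600000000000000000000000000000000000000000000000000000000000000000000000e00000000000000000700000000000000000200000000000000000000000000000000000000000000000000000000000000000000000900000000000000000500000000000000000d00000000000000000000000000000000000000000000000000000000000000000000000500000000000000000500000000000000000900000000000000000000000000000000000000000000000000000000000000000000000200000000000000000800000000000000000200000000000000000000000000000000000000000000000000000000000000000000000c00000000000000000900000000000000000800000000000000000000000000000000000000000000000000000000000000000000000b000000000000000003000000000000000003000000000000000000000000000000000000000000000000000000000000000000000002000000000000000008000000000000000001000000000000000000) (.leaf 0xf00000000000000000000000000000000000000000000000000000000000000000000000d00000000000000000f00000000000000000f00000000000000000000000000000000000000000000000000000000000000000000000a00000000000000000f00000000000000000e00000000000000000000000000000000000000000000000000000000000000000000000900000000000000000a00000000000000000e00000000000000000000000000000000000000000000000000000000000000000000000800000000000000000c00000000000000000900000000000000000000000000000000000000000000000000000000000000000000000a00000000000000000d00000000000000000700000000000000000000000000000000000000000000000000000000000000000000000f00000000000000000d00000000000000000c00000000000000000000000000000000000000000000000000000000000000000000000b00000000000000000e00000000000000000c00000000000000000000000000000000000000000000000000000000000000000000000600000000000000000a00000000000000000a00000000000000000000000000000000000000000000000000000000000000000000000600000000000000000b00000000000000000400000000000000000000000000000000000000000000000000000000000000000000000c00000000000000000b000000000000000004000000000000000000000000000000000000000000000000000000)))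

end Cfsg.Lib.J4Pres.Lvl3
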