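import Cfsg.Agent.Lib.CosetEnum.Defs

/-! Generated table data. -/

set_option autoImplicit false
set_option maxRecDepth 20000

namespace Cfsg.Lib.J4Pres.Lvl3

open CosetEnum (Tab)

/-- Closing facts. -/
def tabZ : Tab :=
  (.node 1 (.leaf 0x18b00000000000000019b00000000000000000a00000000000000000000000000000000000000000000000000000000000000000000012000000000000000014300000000000000000900000000000000000000000000000000000000000000000000000000000000000000000300000000000000014300000000000000019000000000000000000000000000000000000000000000000000000000000000000000000200000000000000011a00000000000000017f000000000000000000000000000000000000000000000000000000000000000000000120000000000000000008000000000000000007000000000000000000000000000000000000000000000000000000000000000000000006000000000000000116000000000000000005000000000000000000000000000000000000000000000000000000000000000000000187000000000000000001000000000000000004000000000000000000000000000000000000000000000000000000000000000000000003000000000000000000000000000000000190000000000000000000000000000000000000000000000000000000000000000000000002000000000000000116000000000000000115000000000000000000000000000000000000000000000000000000000000000000000114000000000000000001000000000000000115000000000000000000000000000000000000000000000000000000000000000000000114000000000000000000) (.node 1 (.leaf 0xe00000000000000023500000000000000014f0000000000000000000000000000000000000000000000000000000000000000000002370000000000000001dd0000000000000002360000000000000000000000000000000000000000000000000000000000000000000001470000000000000000080000000000000002380000000000000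000000000000000000000000000000000000000000000000000000001da00000000000000013000000000000000012900000000000000000000000000000000000000000000000000000000000000000000000d00000000000000016e00000000000000000700000000000000000000000000000000000000000000000000000000000000000000014700000000000000018a00000000000000000c00000000000000000000000000000000000000000000000000000000000000000000018b00000000000000019b00000000000000023600000000000000000000000000000000000000000000000000000000000000000000000600000000000000016e00000000000000000500000000000000000000000000000000000000000000000000000000000000000000000b00000000000000013000000000000000012900000000000000000000000000000000000000000000000000000000000000000000022b00000000000000011a00000000000000017f00000000000000000000000000000000000000000000000000000000000000000000018700000000000000018a000000000000000004000000000000000000) (.leaf 0x22200000000000000000000000000000000000000000000000000000000000000000000023c00000000000000022300000000000000022200000000000000000000000000000000000000000000000000000000000000000000000e00000000000000022300000000000000023b0000000000000000000000000000000000000000000000000000000000000000000001da0000000000000001dd00000000000000023b00000000000000000000000000000000000000000000000000000000000000000000000d00000000000000023400000000000000023800000000000000000000000000000000000000000000000000000000000000000000023700000000000000023900000000000000000c00000000000000000000000000000000000000000000000000000000000000000000023c00000000000000023900000000000000020900000000000000000000000000000000000000000000000000000000000000000000022e00000000000000023400000000000000020900000000000000000000000000000000000000000000000000000000000000000000000b00000000000000023500000000000000014f00000000000000000000000000000000000000000000000000000000000000000000022b00000000000000022d00000000000000000a00000000000000000000000000000000000000000000000000000000000000000000022e00000000000000022d000000000000000009000000000000000000000000000000000000000000000000000000)))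

end Cfsg.Lib.J4Pres.Lvl3
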