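import Cfsg.Agent.Lib.CosetEnum.Signed.Defs
import Cfsg.Agent.Lib.J4Pres.Defs
import Cfsg.Agent.Lib.J4Pres.Lvl3.TabF
import Cfsg.Agent.Lib.J4Pres.Lvl3.TabC
import Cfsg.Agent.Lib.J4Pres.Lvl3.TabZ
import Cfsg.Agent.Lib.J4Pres.Lvl3.TabP

/-! Generated certificate. -/

set_option autoImplicit false
set_option maxRecDepth 20000

namespace Cfsg.Lib.J4Pres.Lvl3

open CosetEnum

/-- The relators in use. -/
def relWords : List (List Nat) :=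
  [[11, 11, 11],
    [7, 7, 7],
    [6, 6, 6],
    [0, 1, 6, 11, 0, 7],
    [11, 7, 6, 1, 11, 7, 6, 1],
    [7, 0, 7, 0, 7, 0, 7, 0, 7, 0],
    [1, 11, 7, 5, 5, 1, 11, 7, 5, 1, 11, 1, 5, 7, 11, 11, 1, 5],
    [7, 5, 1, 5, 7, 11, 1, 1, 5, 7, 11, 1, 5, 7, 5, 1, 11, 7],
    [7, 5, 1, 11, 7, 7, 5, 1, 11, 7, 7, 5, 1, 11, 7, 7, 5, 1, 11, 7, 7, 5, 1, 11, 7],
    [11, 11, 11],
    [7, 7, 7],
    [6, 6, 6],
    [11, 0, 7, 0, 1, 6],
    [11, 7, 6, 1, 11, 7, 6, 1],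
    [7, 0, 7, 0, 7, 0, 7, 0, 7, 0],
    [5, 1, 11, 7, 5, 5, 1, 11, 7, 5, 1, 11, 1, 5, 7, 11, 11, 1],
    [5, 7, 5, 1, 11, 7, 7, 5, 1, 5, 7, 11, 1, 1, 5, 7, 11, 1],
    [7, 5, 1, 11, 7, 7, 5, 1, 11, 7, 7, 5, 1, 11, 7, 7, 5, 1, 11, 7, 7, 5, 1, 11, 7],
    [0, 6],
    [1, 7],
    [5, 11],
    [6, 0],
    [7, 1],
    [11, 5],
    []]

/-- Their derivations. -/
def relDerivs : List (List Step) :=
  [[([], 0, true)],
  [([], 3, true)],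
  [([], 4, true)],
  [([1, 6, 5], 8, true)],
  [([], 14, true)],
  [([], 23, true)],
  [([11], 30, true)],
  [([1, 5, 7, 11, 1, 11], 31, true)],
  [([], 32, true)],
  [([], 0, true)],
  [([], 3, true)],
  [([], 4, true)],
  [([], 8, true)],
  [([], 14, true)],
  [([], 23, true)],
  [([], 30, true)],
  [([], 31, true)],
  [([], 32, true)],
  [],
  [],
  [],
  [],
  [],
  [],
  []]

/-- Subgroup words. -/
def subWords : List (List Nat) :=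
  [[1],
    [5]]

/-- The certificate. -/
def step : Signed.Cert :=
  ⟨relWords, subWords, [0, 1, 5, 6, 7, 11], tabF, tabC, tabZ, tabP, 276, 297, 16, 6⟩

end Cfsg.Lib.J4Pres.Lvl3
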